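import Groth.Agent.EtCurveDual.PushMain
import Mathlib

/-!
Duality for direct images of locally constant sheaves from a dense open of a curve.
-/

set_option autoImplicit false
set_option backward.isDefEq.respectTransparency false
set_option backward.isDefEq.respectTransparency.types false
set_option linter.style.haveILetI false
set_option linter.unusedSectionVars false
set_option linter.auxLemma false
set_option maxHeartbeats 1000000

universe u

open CategoryTheory CategoryTheory.Limits AlgebraicGeometry Opposite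

attribute [local instance] HasDerivedCategory.standard CategoryTheory.Abelian.hasFiniteBiproducts

noncomputable section

namespace Groth.Agent.EtCurveDual

open Groth.Agent.EtExtCons (shom ext)
open Groth.Agent.EtExtLoc

theorem isEmpty_of_zero {X : Scheme.{u}} (h : IsUnit ((0 : ℕ) : Γ(X, ⊤))) : IsEmpty X := by
  refine ⟨fun x => ?_⟩
  have h1 := h.map (X.presheaf.germ ⊤ x trivial).hom
  rw [Nat.cast_zero, map_zero] at h1
  exact not_isUnit_zero h1

theorem ext_push_dense (n : ℕ) {S U : Scheme.{u}} [IsNoetherian S]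
    (hreg : ∀ s : S, IsRegularLocalRing (S.presheaf.stalk s)) (hdim : ∀ s : S, ringKrullDim (S.presheaf.stalk s) ≤ 1)
    (hn : IsUnit (n : Γ(S, ⊤))) (j : U ⟶ S) [IsOpenImmersion j] (hU : Dense (Set.range j.base))
    (F : EtModW.Mod (ULift.{u+1} (ZMod n)) U) (hF : EtModW.IsFTLocConst (ULift.{u+1} (ZMod n)) F) :
    Nonempty ((shom ((EtModW.push (ULift.{u+1} (ZMod n)) j).obj F)).obj
        (EtModW.constMod (ULift.{u+1} (ZMod n)) S (ULift.{u+1} (ZMod n))) ≅
      (EtModW.push (ULift.{u+1} (ZMod n)) j).obj ((shom F).obj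
        (EtModW.constMod (ULift.{u+1} (ZMod n)) U (ULift.{u+1} (ZMod n))))) ∧
    ∀ i : ℕ, 0 < i → IsZero (ext ((EtModW.push (ULift.{u+1} (ZMod n)) j).obj F)
      (EtModW.constMod (ULift.{u+1} (ZMod n)) S (ULift.{u+1} (ZMod n))) i) := by
  rcases eq_or_ne n 0 with rfl | hn0
  · haveI := isEmpty_of_zero hn
    have hz : ∀ M : EtModW.Mod (ULift.{u+1} (ZMod 0)) S, IsZero M := fun M => EtRpushCons.isZero_of_isEmpty M
    exact ⟨⟨(hz _).iso (hz _)⟩, fun i _ => hz _⟩
  haveI : NeZero n := ⟨hn0⟩
  have hX : Cv n S := ⟨inferInstance, hreg, hdim, hn⟩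
  have hZ : Small (Set.range j)ᶜ := small_compl_of_dense hX (U := j.opensRange) hU
  obtain ⟨⟨e⟩, hv⟩ := ext_push hX j hZ hF
  refine ⟨⟨(extZeroIso _ _).symm ≪≫ e ≪≫ (EtModW.push (ULift.{u+1} (ZMod n)) j).mapIso (extZeroIso _ _)⟩,
    fun i hi => ?_⟩
  obtain ⟨q, rfl⟩ : ∃ q, i = q + 1 := ⟨i - 1, by omega⟩
  exact hv q

end Groth.Agent.EtCurveDual

end
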